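import Groth.Agent.L28.Devissage.Basic
import Groth.Agent.L27.CompTransfer.Torsion
import Groth.Agent.L27.CompTransfer.Descend
import Groth.Agent.L05.CurveNorm.Scheme
import Groth.Agent.L00.RDerLES
import Groth.Prelude.Def_Dix

/-! # Cohomological dimension along morphisms -/

set_option autoImplicit false
set_option linter.style.haveILetI false
set_option linter.unusedSectionVars false
set_option backward.isDefEq.respectTransparency.types false

universe u

open CategoryTheory CategoryTheory.Limits AlgebraicGeometry Opposite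

noncomputable section

namespace Groth.L28.FieldTower

open Groth.L27

/-- Torsion cohomology at the prime `ℓ` vanishes above `d`. -/
def CdLE (ℓ : ℕ) (X : Scheme.{u}) (d : ℕ) : Prop :=
  ∀ F : EtCoh.Ab X, EtAcyc.IsLTorsion {ℓ} F → ∀ q, d < q → Subsingleton (EtCoh.H X F q)

variable {ℓ : ℕ} {X Y : Scheme.{u}}

theorem CdLE.of_integral (π : X ⟶ Y) [IsIntegralHom π] {d : ℕ} (h : CdLE ℓ Y d) : CdLE ℓ X d := by
  intro F hF q hq
  haveI := EtSite.preservesFiniteLimits_pull π
  haveI := h _ (CompTransfer.isLTorsion_push {ℓ} π hF) q hq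
  exact (EtSite.bijective_HofPush π F
    (fun s hs => EtSite.isZero_Rpush_of_propB π (EtSite.propB_of_isIntegralHom π) _ s hs) q).2.subsingleton

theorem CdLE.of_radicial (π : X ⟶ Y) [IsIntegralHom π] [UniversallyInjective π] [Surjective π] {d : ℕ}
    (h : CdLE ℓ X d) : CdLE ℓ Y d := by
  intro F hF q hq
  haveI : IsIso ((EtCoh.pullPushAdj π).unit.app F) :=
    (EtSite.isIso_unit_iff π (EtSite.propA_of_isIntegralHom π) F).2 (fun y _ => π.surjective y)
  exact Devissage.of_iso (asIso ((EtCoh.pullPushAdj π).unit.app F)) q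
    (Devissage.of_push π _ q (h _ (CompTransfer.isLTorsion_pull _ π hF) q hq))

/-- The Leray bound. -/
theorem CdLE.of_leray (p : X ⟶ Y) [QuasiCompact p] [QuasiSeparated p] [CompactSpace X] [QuasiSeparatedSpace X]
    (α : ℕ) (hY : CdLE ℓ Y α) :
    ∀ (β : ℕ) (G : EtCoh.Ab X), EtAcyc.IsLTorsion {ℓ} G → (∀ b, β < b → IsZero ((EtCoh.Rpush p b).obj G)) →
      ∀ q, α + β < q → Subsingleton (EtCoh.H X G q) := by
  haveI := EtSite.preservesFiniteLimits_pull p
  intro β
  induction β with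
  | zero =>
    intro G hG hR q hq
    haveI := hY _ (CompTransfer.isLTorsion_push {ℓ} p hG) q hq
    exact (EtSite.bijective_HofPush p G hR q).2.subsingleton
  | succ β ih =>
    intro G hG hR q hq
    obtain ⟨G₁, v, hv, hG₁, hH, hR₁⟩ := CompTransfer.exists_torsion_effacement {ℓ} G hG
    haveI := hv
    let E : ShortComplex (EtCoh.Ab X) := ShortComplex.mk v (cokernel.π v) (cokernel.condition v)
    have hE : E.ShortExact :=
      { exact := ShortComplex.exact_of_g_is_cokernel _ (cokernelIsCokernel v) }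
    have hG₂ : EtAcyc.IsLTorsion {ℓ} E.X₃ := CompTransfer.isLTorsion_of_epi (cokernel.π v) hG₁
    haveI : PreservesFiniteLimits (EtCoh.push p) := Devissage.preservesFiniteLimits_push p
    have hR₂ : ∀ b, β < b → IsZero ((EtCoh.Rpush p b).obj E.X₃) := by
      intro b hb
      haveI := HasDerivedCategory.standard (EtCoh.Ab X)
      haveI := L00.RDerLES.epi_map_g (S := EtCoh.push p) hE b (hR (b + 1) (by omega))
      exact IsZero.of_epi ((EtCoh.Rpush p b).map E.g) (hR₁ p b (by omega))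
    obtain ⟨n, rfl⟩ : ∃ n, q = n + 1 := ⟨q - 1, by omega⟩
    haveI := ih E.X₃ hG₂ hR₂ n (by omega)
    haveI : Subsingleton (EtCoh.H X E.X₂ (n + 1)) := hH n
    refine subsingleton_of_forall_eq 0 fun x => ?_
    obtain ⟨y, rfl⟩ := LimCoh.exists_δH hE n x (@Subsingleton.elim (EtCoh.H X E.X₂ (n + 1)) this _ _)
    rw [Subsingleton.elim y 0, map_zero]

theorem isPrimaryTorsion_of_isLTorsion {F : EtCoh.Ab X} (hF : EtAcyc.IsLTorsion {ℓ} F) :
    Dix.IsPrimaryTorsion ℓ F := fun U s x => by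
  obtain ⟨V, g, m, hv, hm, h⟩ := hF U s x
  obtain ⟨a, rfl⟩ := FinCovCrit.exists_pow_of_primesIn hm
  exact ⟨V, g, hv, a, h⟩

theorem cohDimLEAt_iff (hℓ : ℓ.Prime) {d : ℕ} : Dix.CohDimLEAt X ℓ d ↔ CdLE ℓ X d := by
  refine ⟨fun h F hF => h F (isPrimaryTorsion_of_isLTorsion hF), fun h F hF => h F fun U s x => ?_⟩
  obtain ⟨V, g, hv, k, hk⟩ := hF U s x
  exact ⟨V, g, ℓ ^ k, hv, FinCovCrit.primesIn_pow hℓ k, hk⟩

end Groth.L28.FieldTower
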