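import Groth.Agent.L05.Henselization.Colimit
import Mathlib.RingTheory.Etale.Field
import Mathlib.RingTheory.Artinian.Module
import Mathlib.FieldTheory.SeparableClosure

/-! # The colimit of étale algebras over a field is the separable closure -/

set_option autoImplicit false
set_option linter.style.haveILetI false

universe u

namespace Groth.L28.FieldTower

open Groth.L05.Henselization

variable (k K : Type u) [Field k] [Field K] [Algebra k K]

theorem injective_ε : Function.Injective (ε k K) := by
  refine (injective_iff_map_eq_zero _).2 fun b hb => ?_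
  obtain ⟨X, x, rfl⟩ := ι_surj b
  haveI : Module.Finite k X.R := Algebra.FormallyUnramified.finite_of_free k X.R
  haveI : IsReduced X.R := Algebra.FormallyUnramified.isReduced_of_field k X.R
  haveI : IsArtinianRing X.R := IsArtinianRing.of_finite k X.R
  obtain ⟨n, y, hy⟩ := IsArtinian.exists_pow_succ_smul_dvd x (1 : X.R)
  simp only [smul_eq_mul, mul_one] at hy
  have h0 : x * (1 - x * y) = 0 := by
    refine IsReduced.eq_zero _ ⟨n + 1, ?_⟩
    rw [mul_pow, show x ^ (n + 1) * (1 - x * y) ^ (n + 1) =
      (x * (1 - x * y) ^ n) * (x ^ n * (1 - x * y)) by ring,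
      show x ^ n * (1 - x * y) = 0 by rw [mul_sub, mul_one, ← mul_assoc, ← pow_succ, hy, sub_self], mul_zero]
  have hu : IsUnit (ι X (1 - x * y)) := isUnit_of_isUnit_ε (by
    rw [ε_ι, map_sub, map_mul, map_one, show X.φ x = 0 from (ε_ι X x).symm.trans hb, zero_mul, sub_zero]
    exact isUnit_one)
  exact hu.mul_left_eq_zero.1 (by rw [← map_mul, h0, map_zero])

theorem range_ε : (ε k K).range = (separableClosure k K).toSubalgebra := by
  refine le_antisymm ?_ fun z hz => ?_
  · rintro _ ⟨b, rfl⟩
    obtain ⟨X, x, rfl⟩ := ι_surj b
    show ε k K (ι X x) ∈ separableClosure k K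
    rw [ε_ι, mem_separableClosure_iff]
    haveI : Module.Finite k X.R := Algebra.FormallyUnramified.finite_of_free k X.R
    haveI : IsReduced X.R := Algebra.FormallyUnramified.isReduced_of_field k X.R
    haveI : Algebra.FormallyUnramified k X.φ.range :=
      Algebra.FormallyUnramified.of_surjective X.φ.rangeRestrict X.φ.rangeRestrict_surjective
    haveI : Module.Finite k X.φ.range := Module.Finite.of_surjective X.φ.rangeRestrict.toLinearMap X.φ.rangeRestrict_surjective
    haveI : Algebra.IsIntegral k X.φ.range := Algebra.IsIntegral.of_finite k _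
    have hF : IsField X.φ.range := isField_of_isIntegral_of_isField' (R := k) (Field.toIsField k)
    letI := hF.toField
    haveI : Algebra.IsSeparable k X.φ.range := (Algebra.FormallyUnramified.isSeparable k X.φ.range)
    have h1 : minpoly k ((⟨X.φ x, x, rfl⟩ : X.φ.range)) = minpoly k (X.φ x) :=
      (minpoly.algHom_eq X.φ.range.val Subtype.val_injective _).symm
    rw [IsSeparable, ← h1]
    exact Algebra.IsSeparable.isSeparable k _
  · have hz' : IsSeparable k z := mem_separableClosure_iff.1 hz
    haveI : Algebra.IsSeparable k (IntermediateField.adjoin k {z}) :=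
      IntermediateField.isSeparable_adjoin_simple_iff_isSeparable k K |>.2 hz'
    haveI : FiniteDimensional k (IntermediateField.adjoin k {z}) :=
      IntermediateField.adjoin.finiteDimensional hz'.isIntegral
    haveI : Algebra.Etale k (IntermediateField.adjoin k {z}) :=
      { formallyEtale := Algebra.FormallyEtale.of_isSeparable k _, finitePresentation := Algebra.FinitePresentation.of_finiteType.1 inferInstance }
    obtain ⟨g, hg⟩ := range_ι_of_etale (K := K) (E := IntermediateField.adjoin k {z}) (IntermediateField.adjoin k {z}).val
    exact ⟨g ⟨z, IntermediateField.mem_adjoin_simple_self k z⟩, DFunLike.congr_fun hg _⟩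

/-- The colimit is the separable closure. -/
noncomputable def colEquiv : Col k K ≃ₐ[k] separableClosure k K :=
  (AlgEquiv.ofInjective (ε k K) (injective_ε k K)).trans (Subalgebra.equivOfEq _ _ (range_ε k K))

end Groth.L28.FieldTower
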