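import Mathlib.FieldTheory.SeparableClosure
import Mathlib.RingTheory.Localization.BaseChange
import Mathlib.RingTheory.PolynomialAlgebra
import Mathlib.RingTheory.AlgebraicIndependent.TranscendenceBasis
import Mathlib.FieldTheory.LinearDisjoint

/-! # Base change of a rational function field along an algebraic extension -/

set_option autoImplicit false
set_option linter.style.haveILetI false

universe u

open scoped TensorProduct

namespace Groth.L28.FieldTower

variable (k R : Type u) [Field k] [Field R] [Algebra k R]

/-- The rational function field. -/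
abbrev RatF : Type u := FractionRing (Polynomial k)

theorem isDomain_ratF_tensor : IsDomain (RatF k ⊗[k] R) := by
  let P := Polynomial k
  haveI : IsDomain (P ⊗[k] R) :=
    (((Algebra.TensorProduct.comm k (Polynomial k) R).trans (polyEquivTensor k R).symm : P ⊗[k] R ≃ₐ[k] Polynomial R)).toMulEquiv.isDomain _
  have hinj : Function.Injective (algebraMap P (P ⊗[k] R)) :=
    Algebra.TensorProduct.includeLeft_injective (S := P) (algebraMap k R).injective
  haveI : IsDomain ((P ⊗[k] R) ⊗[P] RatF k) := by
    refine IsLocalization.isDomain_of_le_nonZeroDivisors (R := P ⊗[k] R)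
      (M := Algebra.algebraMapSubmonoid (P ⊗[k] R) (nonZeroDivisors P)) (S := (P ⊗[k] R) ⊗[P] RatF k) ?_
    rintro _ ⟨x, hx, rfl⟩
    exact mem_nonZeroDivisors_of_ne_zero ((map_ne_zero_iff _ hinj).2 (nonZeroDivisors.ne_zero hx))
  haveI : IsDomain (RatF k ⊗[P] (P ⊗[k] R)) :=
    (Algebra.TensorProduct.comm P (RatF k) (P ⊗[k] R)).toMulEquiv.isDomain _
  exact (Algebra.TensorProduct.cancelBaseChange k P P (RatF k) R).symm.toMulEquiv.isDomain _

theorem isField_ratF_tensor [Algebra.IsAlgebraic k R] : IsField (RatF k ⊗[k] R) :=
  haveI := isDomain_ratF_tensor k R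
  Algebra.TensorProduct.isField_of_isAlgebraic k (RatF k) R (Or.inr inferInstance)

theorem trdeg_ratF : Algebra.trdeg k (RatF k) = 1 := by
  haveI : Algebra.IsAlgebraic (Polynomial k) (RatF k) :=
    IsLocalization.isAlgebraic (S := RatF k) (nonZeroDivisors (Polynomial k))
  rw [← trdeg_add_eq k (Polynomial k) (A := RatF k), Polynomial.trdeg_of_isDomain,
    trdeg_eq_zero (R := Polynomial k) (A := RatF k), add_zero]

end Groth.L28.FieldTower
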