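import Groth.Agent.L28.FieldTower.SepClosed
import Groth.Agent.L28.FieldTower.Tensor
import Groth.Agent.L28.FieldTower.Col
import Groth.Agent.L27.StalkRpush.Final

/-! # The cohomological dimension of an extension of finite transcendence degree -/

set_option autoImplicit false
set_option linter.style.haveILetI false
set_option linter.unusedSectionVars false
set_option backward.isDefEq.respectTransparency.types false

universe u

open CategoryTheory CategoryTheory.Limits AlgebraicGeometry Opposite
open scoped TensorProduct

noncomputable section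

namespace Groth.L28.FieldTower

variable {ℓ : ℕ} (hℓ : ℓ.Prime)

include hℓ in
/-- One variable more raises the cohomological dimension by at most one. -/
theorem cdLE_ratF (k : Type u) [Field k] {d : ℕ} (h : CdLE ℓ (Spec (CommRingCat.of k)) d) :
    CdLE ℓ (Spec (CommRingCat.of (RatF k))) (d + 1) := by
  intro F hF q hq
  let f : Spec (CommRingCat.of (RatF k)) ⟶ Spec (CommRingCat.of k) :=
    Spec.map (CommRingCat.ofHom (algebraMap k (RatF k)))
  refine CdLE.of_leray f d h 1 F hF (fun b hb => ?_) q hq
  refine (Groth.L27.EtSite.isZero_iff_stalks _).2 fun Ω _ _ ξ => ?_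
  obtain ⟨φ, rfl⟩ := Spec.map_surjective ξ
  letI : Algebra k Ω := φ.hom.toAlgebra
  let R := separableClosure k Ω
  haveI : IsSepClosure k R := separableClosure.isSepClosure k Ω
  haveI : IsSepClosed R := IsSepClosure.sep_closed k
  haveI : Algebra.IsAlgebraic k R := Algebra.IsSeparable.isAlgebraic k R
  obtain ⟨e⟩ := Groth.L27.StalkRpush.nonempty_natIso_chart f k (𝟙 _) Ω R (colEquiv k Ω) b
    (Spec.map φ) (Category.comp_id _).symm (Groth.L27.StalkRpush.toBase k R) (Category.comp_id _).symm
  refine IsZero.of_iso ?_ (e.app F)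
  -- the fibre is the spectrum of a field of transcendence degree one over `R`
  let A := RatF k ⊗[k] R
  have hA : IsField A := isField_ratF_tensor k R
  letI : Field A := @IsField.toField A (inferInstance : CommRing (RatF k ⊗[k] R)).toRing hA
  letI : Algebra R A := Algebra.TensorProduct.rightAlgebra
  haveI : IsScalarTower k R A := Algebra.TensorProduct.right_isScalarTower
  haveI : Algebra.IsAlgebraic (RatF k) A := inferInstance
  have htr : Algebra.trdeg R A = 1 := by
    have h1 : Algebra.trdeg k A = 1 := by
      rw [← trdeg_add_eq k (RatF k) (A := A), trdeg_ratF, trdeg_eq_zero (R := RatF k) (A := A), add_zero]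
    rw [← h1, ← trdeg_add_eq k R (A := A), trdeg_eq_zero (R := k) (A := R), zero_add]
  let π : pullback f (Groth.L27.StalkRpush.toBase k R) ⟶ Spec (CommRingCat.of A) :=
    (pullbackSpecIso k (RatF k) R).hom
  have hv := CdLE.of_integral π (cdLE_one_of_trdeg_one hℓ R A htr) _
    (Groth.L27.CompTransfer.isLTorsion_pull _ (pullback.fst f (Groth.L27.StalkRpush.toBase k R)) hF) b hb
  exact @AddCommGrpCat.isZero_of_subsingleton _ hv

include hℓ in
/-- Cohomological dimension and transcendence degree add. -/
theorem cdLE_of_trdeg : ∀ (t : ℕ) (k k' : Type u) [Field k] [Field k'] [Algebra k k'],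
    Algebra.trdeg k k' = t → ∀ d, CdLE ℓ (Spec (CommRingCat.of k)) d → CdLE ℓ (Spec (CommRingCat.of k')) (d + t)
  | 0, k, k', _, _, _, ht, d, hd => by
    haveI : Algebra.IsAlgebraic k k' := trdeg_eq_zero_iff.1 (ht.trans Nat.cast_zero)
    let π : Spec (CommRingCat.of k') ⟶ Spec (CommRingCat.of k) := Groth.L05.CurveNorm.ext k k'
    haveI : IsIntegralHom π := IsIntegralHom.SpecMap_iff.mpr (algebraMap_isIntegral_iff.mpr inferInstance)
    exact hd.of_integral π
  | t + 1, k, k', _, _, _, ht, d, hd => by
    obtain ⟨x, hx⟩ : ∃ x : k', Transcendental k x := by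
      by_contra hall
      push Not at hall
      haveI : Algebra.IsAlgebraic k k' := ⟨fun x => not_not.1 (hall x)⟩
      rw [trdeg_eq_zero] at ht
      exact (Nat.succ_ne_zero t) (Nat.cast_eq_zero.1 ht.symm)
    have hinj : Function.Injective (Polynomial.aeval x : Polynomial k →ₐ[k] k') := transcendental_iff_injective.1 hx
    let φ : RatF k →ₐ[k] k' := IsFractionRing.liftAlgHom hinj
    letI : Algebra (RatF k) k' := φ.toRingHom.toAlgebra
    haveI : IsScalarTower k (RatF k) k' := IsScalarTower.of_algebraMap_eq fun r => (φ.commutes r).symm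
    have h1 : (1 : Cardinal) + Algebra.trdeg (RatF k) k' = 1 + (t : Cardinal) := by
      have h2 := trdeg_add_eq k (RatF k) (A := k')
      rw [trdeg_ratF, ht, Nat.cast_add, Nat.cast_one] at h2
      rw [h2, add_comm]
    have h3 : Algebra.trdeg (RatF k) k' = t := Cardinal.eq_of_add_eq_add_left h1 Cardinal.one_lt_aleph0
    have := cdLE_of_trdeg t (RatF k) k' h3 (d + 1) (cdLE_ratF hℓ k hd)
    rwa [add_assoc, add_comm 1 t] at this

end Groth.L28.FieldTower
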