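import Groth.Agent.L28.FieldTower.Base
import Groth.Agent.L28.FieldCd.CdOne
import Groth.Agent.L28.EtTrace.BrauerNorm
import Groth.Agent.S0212
import Mathlib.FieldTheory.PurelyInseparable.PerfectClosure

/-! # Function fields of one variable over separably closed fields -/

set_option autoImplicit false
set_option linter.style.haveILetI false
set_option linter.unusedSectionVars false
set_option backward.isDefEq.respectTransparency.types false

universe u

open CategoryTheory CategoryTheory.Limits AlgebraicGeometry Opposite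

noncomputable section

namespace Groth.L28.FieldTower

variable {ℓ : ℕ} (hℓ : ℓ.Prime)

include hℓ in
/-- Fields all whose finite separable extensions have surjective norms. -/
theorem cdLE_one_of_normSurj (K : Type u) [Field K]
    (hN : ∀ (E : Type u) [Field E] [Algebra K E] [FiniteDimensional K E] [Algebra.IsSeparable K E],
      (ℓ : K) ≠ 0 → EtTrace.NormSurj ℓ E) : CdLE ℓ (Spec (CommRingCat.of K)) 1 := by
  haveI : Fact ℓ.Prime := ⟨hℓ⟩
  intro F hF q hq
  refine Devissage.of_constructible hℓ q (fun C _ hC => subsingleton_of_forall_eq 0 fun x => ?_) F hF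
  refine FieldCd.cd_one ℓ K hN C (Groth.L27.AffineEfface.isTorsion_of_isLTorsion
    (Groth.L27.DerBC.Killed.isLTorsion ⟨ℓ ^ 1, FinCovCrit.primesIn_pow hℓ 1, by rwa [pow_one]⟩)) q hq x ⟨1, ?_⟩
  rw [pow_one]
  exact (Groth.L28.EtTrace.comp_mk₀_nsmul ℓ q x).symm.trans
    (by rw [hC, Abelian.Ext.mk₀_zero, Abelian.Ext.comp_zero])

include hℓ in
/-- A field of transcendence degree one over a separably closed field. -/
theorem cdLE_one_of_trdeg_one (R E : Type u) [Field R] [IsSepClosed R] [Field E] [Algebra R E]
    (h : Algebra.trdeg R E = 1) : CdLE ℓ (Spec (CommRingCat.of E)) 1 := by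
  let Ω := AlgebraicClosure E
  let L : IntermediateField R Ω := algebraicClosure R Ω
  let E' : IntermediateField E Ω := perfectClosure E Ω
  haveI : IsAlgClosed L := IsAlgClosure.isAlgClosed R
  have hle : ∀ z : Ω, z ∈ L → z ∈ E' := fun z hz => by
    obtain ⟨q, hq⟩ := ExpChar.exists R
    haveI : ExpChar E q := expChar_of_injective_algebraMap (algebraMap R E).injective q
    rw [mem_perfectClosure_iff_pow_mem q]
    haveI : IsPurelyInseparable R L := Algebra.IsAlgebraic.isPurelyInseparable_of_isSepClosed
    obtain ⟨n, r, hr⟩ := IsPurelyInseparable.pow_mem R q (⟨z, hz⟩ : L)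
    refine ⟨n, algebraMap R E r, ?_⟩
    rw [← IsScalarTower.algebraMap_apply R E Ω]
    exact congrArg Subtype.val hr
  letI : Algebra L E' := RingHom.toAlgebra
    { toFun := fun z => ⟨z.1, hle z.1 z.2⟩
      map_one' := rfl
      map_mul' := fun _ _ => rfl
      map_zero' := rfl
      map_add' := fun _ _ => rfl }
  haveI : IsScalarTower R L E' := IsScalarTower.of_algebraMap_eq fun _ => rfl
  let π : Spec (CommRingCat.of E') ⟶ Spec (CommRingCat.of E) := Groth.L05.CurveNorm.ext E E'
  haveI : IsIntegralHom π := IsIntegralHom.SpecMap_iff.mpr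
    (algebraMap_isIntegral_iff.mpr inferInstance)
  haveI : UniversallyInjective π := Groth.L05.CurveNorm.universallyInjective_ext E E'
  haveI : Surjective π := Groth.L05.CurveNorm.surjective_ext E E'
  haveI : Fact ℓ.Prime := ⟨hℓ⟩
  refine CdLE.of_radicial π (cdLE_one_of_normSurj hℓ E' fun F _ _ _ _ _ => ?_)
  letI : Algebra L F := ((algebraMap E' F).comp (algebraMap L E')).toAlgebra
  haveI : IsScalarTower L E' F := IsScalarTower.of_algebraMap_eq' rfl
  letI : Algebra R F := ((algebraMap E' F).comp (algebraMap R E')).toAlgebra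
  haveI : IsScalarTower R E' F := IsScalarTower.of_algebraMap_eq' rfl
  haveI : IsScalarTower R L F := IsScalarTower.of_algebraMap_eq fun r => by
    show algebraMap E' F (algebraMap R E' r) = algebraMap E' F (algebraMap L E' (algebraMap R L r))
    rw [← IsScalarTower.algebraMap_apply R L E']
  haveI : Algebra.IsAlgebraic E' F := Algebra.IsAlgebraic.of_finite E' F
  haveI : Algebra.IsAlgebraic R L := algebraicClosure.isAlgebraic R Ω
  have hE' : Algebra.trdeg R E' = 1 := by
    rw [← trdeg_add_eq R E (A := E'), h, trdeg_eq_zero, add_zero]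
  have hF : Algebra.trdeg R F = 1 := by
    rw [← trdeg_add_eq R E' (A := F), hE', trdeg_eq_zero, add_zero]
  have hL : Algebra.trdeg L F = 1 := by
    rw [← hF, ← trdeg_add_eq R L (A := F), trdeg_eq_zero (R := R) (A := L), zero_add]
  exact Groth.L28.EtTrace.normSurj_of_brTrivial F
    (Groth.L28.EtTrace.brTrivial_of_isCi (Groth.Agent.S0212.result L F 1 (by rw [hL, Nat.cast_one]))) ℓ

end Groth.L28.FieldTower
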